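import Cfsg.Agent.Lib.Solv.Special.Embed648

/-!
# Facts on the group `3³ : S₄`
-/

set_option autoImplicit false
set_option maxRecDepth 100000

namespace Cfsg.Agent.Spor.PSLFourThree.XB

open Cfsg Cfsg.Agent.Char Cfsg.Agent.Solv.Special Cfsg.Agent.Solv.Special.W648

/-- The elements permuting the three lines cyclically. -/
def Out (m : M648) : Prop := isRot (pp m) = true ∧ pp m ≠ 1

instance : DecidablePred Out := fun m => inferInstanceAs (Decidable (_ ∧ _))

/-- The elements of the normal subgroup with at least two non-zero coordinates. -/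
def NE (m : M648) : Prop :=
  rot m ∧ ((tt 0 m ≠ 1 ∧ tt 1 m ≠ 1) ∨ (tt 0 m ≠ 1 ∧ tt 2 m ≠ 1) ∨ (tt 1 m ≠ 1 ∧ tt 2 m ≠ 1))

instance : DecidablePred NE := fun m => inferInstanceAs (Decidable (_ ∧ _))

/-- A non-elliptic element centralising an outer element. -/
def yv (d : M648) : M648 :=
  let q := d * d * d
  if q = 1 then jA * (d * jA * d⁻¹) * (d * d * jA * (d * d)⁻¹) else q

theorem yv_spec : ∀ d : M648, Out d → NE (yv d) ∧ yv d * d = d * yv d := by decide +kernel

theorem ne_one_of_ne : ∀ m : M648, NE m → m ≠ 1 := by decide +kernel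

theorem out_facts : ∀ d : M648, Out d → d ≠ 1 ∧ d ^ 9 = 1 ∧ ¬ rot d := by decide +kernel

theorem out_cent_card : ∀ d : M648, Out d → centCard d = 9 := by decide +kernel

theorem out_conj (d g : M648) (h : Out d) : Out (g * d * g⁻¹) :=
  (show ∀ a b : D3, (isRot a = true ∧ a ≠ 1) → isRot (b * a * b⁻¹) = true ∧ b * a * b⁻¹ ≠ 1 by decide)
    (pp d) (pp g) h

theorem out_cube : ∀ d : M648, Out d → d * d * d ≠ 1 → NE (d * d * d) := by decide +kernel

/-- The first function: three on the outer elements. -/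
def gf (m : M648) : V2 := one2 m + eps m - qq m

/-- The second function. -/
def ph (m : M648) : V2 := mv 4 m - mv 5 m

theorem gc_gf : GC2 gf := by
  have h : GC2 fun m => one2 m + eps m := by
    obtain ⟨a, b, ha, hb, e⟩ := gc_one2
    obtain ⟨c, d, hc, hd, e'⟩ := gc_eps
    refine ⟨a + c, b + d, isCharacter_add ha hc, isCharacter_add hb hd, ?_⟩
    funext m
    have h1 : toR (one2 m) = a m - b m := congrFun e m
    have h2 : toR (eps m) = c m - d m := congrFun e' m
    rw [map_add, h1, h2]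
    simp only [Pi.sub_apply, Pi.add_apply]
    ring
  exact h.sub gc_qq

theorem gc_ph : GC2 ph := (gc_mv 4).sub (gc_mv 5)

theorem gf_val : ∀ m : M648, gf m = if Out m then (3, 0) else 0 := by decide +kernel

theorem ph_supp : ∀ m : M648, ¬ Out m → ph m = 0 := by decide +kernel

theorem gf_supp (m : M648) (h : ¬ Out m) : gf m = 0 := by rw [gf_val, if_neg h]

theorem ph_three : ∀ m : M648, Out m → m * m * m = 1 → ph m = (3, 0) := by decide +kernel

theorem ip_gg : dot2 gf gf = (648 * 3, 0) ∧ dot2 gf one2 = (648 * 1, 0) := by decide +kernel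

theorem ip_pp : dot2 ph ph = (648 * 2, 0) ∧ dot2 ph one2 = (648 * 0, 0) := by decide +kernel

/-- The involutions. -/
theorem invol_types : ∀ m : M648, m * m = 1 → m ≠ 1 →
    irep m = f1 ∧ pp m = 1 ∨ irep m = e1 ∧ pp m ≠ 1 := by decide +kernel

theorem f1_facts : f1 * f1 = 1 ∧ f1 ≠ 1 ∧ pp f1 = 1 := by decide +kernel

theorem out_of_transp : ∀ m : M648, ¬ Out m → pp m ≠ 1 → Out (m * gB * m⁻¹ * gB⁻¹) := by decide +kernel

theorem pp_one_cases : ∀ m : M648, pp m = 1 →
    rot m ∨ rot (m * f1) ∨ rot (m * (gB * f1 * gB⁻¹)) ∨ rot (m * (f1 * (gB * f1 * gB⁻¹))) := by decide +kernel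

theorem gA_comm : gA * (gB * f1 * gB⁻¹) * gA⁻¹ * (gB * f1 * gB⁻¹) = gA * gA := by decide +kernel

end Cfsg.Agent.Spor.PSLFourThree.XB
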