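import Cfsg.Agent.Lib.Spor.PSLFourThree.XB.Local
import Cfsg.Agent.Lib.Spor.PSLFourThree.WreathCase

/-!
# The kernel of the lifted functions
-/

set_option autoImplicit false
set_option linter.unusedSectionVars false
set_option linter.style.haveILetI false
set_option maxRecDepth 100000

namespace Cfsg.Agent.Spor.PSLFourThree

open Cfsg Cfsg.Agent.Char Cfsg.Agent.Solv.Special Cfsg.Agent.Solv.Special.W648 XB
open scoped ComplexConjugate

universe u

namespace XbCfg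

variable {X : Type u} [Group X] [Fintype X] (w : XbCfg X)

/-- The model as the subgroup. -/
noncomputable def eM : M648 ≃* ↥w.M := MonoidHom.ofInjective w.inj

theorem eM_coe (m : M648) : (w.eM m : X) = w.φ m := rfl

/-- A table as a function on the subgroup. -/
noncomputable def tr (f : M648 → V2) (x : ↥w.M) : ℂ := toR (f (w.eM.symm x))

theorem tr_at (f : M648 → V2) {m : M648} (h : w.φ m ∈ w.M) : w.tr f ⟨w.φ m, h⟩ = toR (f m) := by
  rw [tr, show (⟨w.φ m, h⟩ : ↥w.M) = w.eM m from rfl, MulEquiv.symm_apply_apply]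

theorem tr_gen {f : M648 → V2} (hf : GC2 f) : IsGeneralizedCharacter ↥w.M (w.tr f) := by
  obtain ⟨a, b, ha, hb, e⟩ := hf
  refine ⟨_, _, isCharacter_comp w.eM.symm.toMonoidHom ha, isCharacter_comp w.eM.symm.toMonoidHom hb, ?_⟩
  funext m
  exact congrFun e (w.eM.symm m)

theorem tr_supp {f : M648 → V2} (hs : ∀ m, ¬ Out m → f m = 0) (x : ↥w.M) (hx : (x : X) ∉ w.D) :
    w.tr f x = 0 := by
  rw [tr, hs _ fun h => hx ⟨w.eM.symm x, h, by rw [← eM_coe, MulEquiv.apply_symm_apply]⟩, map_zero]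

/-- The lift. -/
noncomputable def lift (f : M648 → V2) : X → ℂ := dadeIsometry w.D w.M Hd (w.tr f)

theorem lift_gen {f : M648 → V2} (hf : GC2 f) (hs : ∀ m, ¬ Out m → f m = 0) :
    IsGeneralizedCharacter X (w.lift f) := by
  haveI := Fintype.ofFinite ↥w.M
  exact isGenChar_dadeIsometry w.dade (w.tr_gen hf) (w.tr_supp hs)

theorem lift_at {f : M648 → V2} (hf : GC2 f) {d : M648} (hd : Out d) {u : X} (hu : u ∈ Hd (w.φ d)) {g x : X}
    (e : x * g * x⁻¹ = w.φ d * u) : w.lift f g = toR (f d) := by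
  rw [lift, dadeIsometry_apply w.dade (classFun_of_gen (w.tr_gen hf)) ⟨d, hd, rfl⟩ hu e, tr_at]

theorem lift_zero {f : M648 → V2} {g : X} (hg : g ∉ dadeSet w.D Hd) : w.lift f g = 0 :=
  dadeIsometry_eq_zero w.dade hg

theorem not_dadeSet {g : X} (hg : g * g = 1) : g ∉ dadeSet w.D Hd := by
  rintro ⟨_, ⟨d, hd, rfl⟩, u, hu, x, e⟩
  have h2 : w.φ d ^ 2 * u ^ 2 = 1 := by
    rw [← (dade_commute w.dade ⟨d, hd, rfl⟩ hu).mul_pow, ← e, conj_pow, pow_two, hg, mul_one, mul_inv_cancel]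
  have hmem : w.φ d ^ 2 ∈ Hd (w.φ d) ⊓ (w.M ⊓ Subgroup.centralizer ({w.φ d} : Set X)) :=
    Subgroup.mem_inf.2 ⟨(eq_inv_of_mul_eq_one_left h2).symm ▸ inv_mem (pow_mem hu 2),
      Subgroup.mem_inf.2 ⟨pow_mem (w.mem d) 2, pow_mem (Subgroup.mem_centralizer_singleton_iff.2 rfl) 2⟩⟩
  rw [w.Hd_inf hd, Subgroup.mem_bot] at hmem
  refine (out_facts d hd).1 (w.inj ?_)
  have h9 : w.φ d ^ 9 = 1 := by rw [← map_pow, (out_facts d hd).2.1, map_one]
  calc w.φ d = (w.φ d ^ 2) ^ 5 * ((w.φ d ^ 9))⁻¹ := by group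
    _ = w.φ 1 := by rw [hmem, h9, one_pow, inv_one, mul_one, map_one]

theorem inner_lift {f : M648 → V2} (hf : GC2 f) (hs : ∀ m, ¬ Out m → f m = 0) {n : ℤ}
    (h : dot2 f f = (648 * n, 0)) : classInner (w.lift f) (w.lift f) = (n : ℂ) := by
  classical
  haveI := Fintype.ofFinite ↥w.M
  have hc := classFun_of_gen (w.tr_gen hf)
  rw [lift, classInner_dade_dade w.dade hc (w.tr_supp hs) hc]
  refine (inner_eq w.eM.symm f f).trans ?_
  rw [h, toR_apply]
  push_cast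
  ring

theorem inner_lift_one {f : M648 → V2} (hf : GC2 f) (hs : ∀ m, ¬ Out m → f m = 0) {n : ℤ}
    (h : dot2 f one2 = (648 * n, 0)) : classInner (w.lift f) (fun _ => 1) = (n : ℂ) := by
  classical
  haveI := Fintype.ofFinite ↥w.M
  rw [lift, classInner_dade w.dade (classFun_of_gen (w.tr_gen hf)) (w.tr_supp hs)
    (χ := fun _ => (1 : ℂ)) (fun _ _ => rfl) (ψ := fun x => toR (one2 (w.eM.symm x))) ?_]
  · refine (inner_eq w.eM.symm f one2).trans ?_
    rw [h, toR_apply]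
    push_cast
    ring
  intro a _
  rw [finsum_mem_eq_finite_toFinset_sum _ (Set.toFinite _), Finset.sum_const, nsmul_eq_mul, mul_one,
    ← Set.ncard_eq_toFinset_card, ← Nat.card_coe_set_eq]
  simp only [SetLike.coe_sort_coe]
  rw [inv_mul_cancel₀ (Nat.cast_ne_zero.mpr Nat.card_pos.ne'), toR_apply]
  simp [one2]

/-- The two lifts agree on the products of two conjugates of the involution. -/
theorem lift_agree {u v : X} (hu : IsConj (w.φ f1) u) (hv : IsConj (w.φ f1) v) :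
    w.lift gf (u * v) = w.lift ph (u * v) := by
  by_cases hD : u * v ∈ dadeSet w.D Hd
  swap
  · rw [w.lift_zero hD, w.lift_zero hD]
  obtain ⟨_, ⟨d, hd, rfl⟩, z, hz, x, e⟩ := hD
  rw [w.lift_at gc_gf hd hz e, w.lift_at gc_ph hd hz e, gf_val, if_pos (show Out d from hd)]
  by_cases h3 : d * d * d = 1
  · rw [ph_three d hd h3]
  exfalso
  rw [w.Hd_nine hd h3, Subgroup.mem_bot] at hz
  subst hz
  rw [mul_one] at e
  obtain ⟨a, ha⟩ := isConj_iff.1 hu
  obtain ⟨b, hb⟩ := isConj_iff.1 hv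
  set u' := x * u * x⁻¹ with hu'
  set v' := x * v * x⁻¹ with hv'
  have huv : u' * v' = w.φ d := by rw [← e, hu', hv']; group
  have sq : ∀ c : X, c * w.φ f1 * c⁻¹ * (c * w.φ f1 * c⁻¹) = 1 := fun c => by
    calc c * w.φ f1 * c⁻¹ * (c * w.φ f1 * c⁻¹) = c * (w.φ f1 * w.φ f1) * c⁻¹ := by group
      _ = 1 := by rw [← map_mul, f1_facts.1, map_one]; group
  have hu2 : u' * u' = 1 := by
    rw [hu', ← ha, show x * (a * w.φ f1 * a⁻¹) * x⁻¹ = x * a * w.φ f1 * (x * a)⁻¹ by group]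
    exact sq _
  have hv2 : v' * v' = 1 := by
    rw [hv', ← hb, show x * (b * w.φ f1 * b⁻¹) * x⁻¹ = x * b * w.φ f1 * (x * b)⁻¹ by group]
    exact sq _
  have huM : u' ∈ w.M := by
    refine w.nine_cent hd h3 ?_
    have key : ∀ p q : X, p * p = 1 → q * q = 1 → p * (p * q) * p⁻¹ = (p * q)⁻¹ := fun p q hp hq => by
      rw [mul_inv_rev, inv_eq_of_mul_eq_one_right hp, inv_eq_of_mul_eq_one_right hq,
        ← mul_assoc p p q, hp, one_mul]
    have : u' * w.φ d * u'⁻¹ = (w.φ d)⁻¹ := by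
      rw [← huv]
      exact key _ _ hu2 hv2
    rw [this]
    exact inv_mem (w.mem d)
  obtain ⟨m, hm⟩ := huM
  have hinv : ∀ {n : M648} {c : X}, w.φ n = c → IsConj (w.φ f1) c → c * c = 1 → pp n = 1 := by
    intro n c hn hc hc2
    have hn2 : n * n = 1 := w.inj (by rw [map_mul, hn, hc2, map_one])
    have hn1 : n ≠ 1 := by
      intro h
      rw [h, map_one] at hn
      subst hn
      exact f1_facts.2.1 (w.inj ((isConj_one_left.1 hc).trans w.φ.map_one.symm))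
    rcases invol_types n hn2 hn1 with ⟨-, hp⟩ | ⟨he, -⟩
    · exact hp
    exfalso
    obtain ⟨k, hk⟩ := irep_conj n (Finset.mem_filter.2 ⟨Finset.mem_univ _, hn2⟩)
    rw [he] at hk
    refine w.vt ((isConj_iff.2 ⟨w.φ k, ?_⟩).trans hc.symm)
    rw [← hn, ← hk, map_mul, map_mul, map_inv]
  have hp1 : pp m = 1 := hinv hm (hu.trans (isConj_iff.2 ⟨x, rfl⟩)) hu2
  have hp2 : pp (m * d) = 1 := hinv (c := v') (by
    rw [map_mul, hm, ← huv, ← mul_assoc, hu2, one_mul]) (hv.trans (isConj_iff.2 ⟨x, rfl⟩)) hv2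
  refine hd.2 ?_
  have : pp (m * d) = pp m * pp d := rfl
  rwa [hp1, one_mul, hp2, eq_comm] at this

theorem exists_normal : ∃ N : Subgroup X, N.Normal ∧ ∀ m : M648, w.φ m ∈ N ↔ pp m = 1 := by
  classical
  have hg := w.lift_gen gc_gf gf_supp
  have hp := w.lift_gen gc_ph ph_supp
  obtain ⟨zg, hvg, hcg⟩ := exists_coeff hg
  obtain ⟨zp, hvp, hcp⟩ := exists_coeff hp
  set v := w.φ f1 with hvdef
  have hv2 : v * v = 1 := by rw [hvdef, ← map_mul, f1_facts.1, map_one]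
  set s0 := Finset.univ.erase (⟨_, isIrrCharacter_one⟩ : IrrCharacter X) with hs0
  have g10 : classInner (w.lift gf) (fun _ => 1) = ((1 : ℤ) : ℂ) := w.inner_lift_one gc_gf gf_supp ip_gg.2
  have p10 : classInner (w.lift ph) (fun _ => 1) = ((0 : ℤ) : ℂ) := w.inner_lift_one gc_ph ph_supp ip_pp.2
  have dgg := WreathCfg.dot_split hvg hcg hcg g10 g10 (w.inner_lift gc_gf gf_supp ip_gg.1)
  have dpp := WreathCfg.dot_split hvp hcp hcp p10 p10 (w.inner_lift gc_ph ph_supp ip_pp.1)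
  obtain ⟨i, hi, j, hj, hij, zi, zj, zo⟩ := Wreath.two_support (s := s0) (z := zg)
    (((Finset.sum_congr rfl fun _ _ => pow_two _).trans dgg).trans (by norm_num))
  obtain ⟨k, hk, l, hl, hkl, zk, zl, zo'⟩ := Wreath.two_support (s := s0) (z := zp)
    (((Finset.sum_congr rfl fun _ _ => pow_two _).trans dpp).trans (by norm_num))
  have two : ∀ {z : IrrCharacter X → ℤ} {i j : IrrCharacter X}, i ∈ s0 → j ∈ s0 → i ≠ j →
      (∀ t ∈ s0, t ≠ i → t ≠ j → z t = 0) → ∀ f : IrrCharacter X → ℂ,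
      ∑ t ∈ s0, (z t : ℂ) * f t = z i * f i + z j * f j := by
    intro z i j hi hj hij hz f
    rw [← Finset.sum_subset (s₁ := {i, j}) (Finset.insert_subset hi (Finset.singleton_subset_iff.2 hj))
      fun t ht ht' => by
        simp only [Finset.mem_insert, Finset.mem_singleton, not_or] at ht'
        rw [hz t ht ht'.1 ht'.2, Int.cast_zero, zero_mul], Finset.sum_pair hij]
  have eg : ∀ f : IrrCharacter X → ℂ, ∑ χ : IrrCharacter X, (zg χ : ℂ) * f χ =
      f ⟨_, isIrrCharacter_one⟩ + (zg i * f i + zg j * f j) := fun f => by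
    rw [WreathCfg.sum_split hcg g10, two hi hj hij zo]
    push_cast
    ring
  have ep : ∀ f : IrrCharacter X → ℂ, ∑ χ : IrrCharacter X, (zp χ : ℂ) * f χ = zp k * f k + zp l * f l :=
    fun f => by
      rw [WreathCfg.sum_split hcp p10, two hk hl hkl zo']
      push_cast
      ring
  have hz : ∀ {f : M648 → V2} {z : X}, z * z = 1 → w.lift f z = 0 := fun h => w.lift_zero (w.not_dadeSet h)
  have g1 : w.lift gf 1 = 0 := hz (one_mul 1)
  have gv : w.lift gf v = 0 := hz hv2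
  have p1 : w.lift ph 1 = 0 := hz (one_mul 1)
  have pv : w.lift ph v = 0 := hz hv2
  rw [hvg, eg] at g1 gv
  rw [hvp, ep] at p1 pv
  -- sums over pairs
  have hX : (Nat.card X : ℂ) ≠ 0 := Nat.cast_ne_zero.mpr Nat.card_pos.ne'
  have qg := WreathCfg.pair_sum_coeff hvg v
  have qp := WreathCfg.pair_sum_coeff hvp v
  rw [Finset.sum_congr rfl fun a _ => Finset.sum_congr rfl fun b _ =>
    w.lift_agree (isConj_iff.2 ⟨a, rfl⟩) (isConj_iff.2 ⟨b, rfl⟩), qp] at qg
  have q := mul_left_cancel₀ (pow_ne_zero 2 hX) qg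
  rw [eg, ep] at q
  have hone : ∀ x : X, ((⟨_, isIrrCharacter_one⟩ : IrrCharacter X) : X → ℂ) x = 1 := fun _ => rfl
  simp only [hone] at g1 gv q
  have hsq : ∀ {n : ℤ}, n * n = 1 → (n : ℂ) * n = 1 := fun h => by exact_mod_cast h
  have hs_ne : ∀ {n : ℤ}, n * n = 1 → (n : ℂ) ≠ 0 := fun h => left_ne_zero_of_mul_eq_one (hsq h)
  -- the second function contributes nothing
  have hR : (zp k : ℂ) * ((k : X → ℂ) v ^ 2 / (k : X → ℂ) 1) + zp l * ((l : X → ℂ) v ^ 2 / (l : X → ℂ) 1) = 0 := by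
    have k1 := irr_one_ne_zero k.2
    have l1 := irr_one_ne_zero l.2
    have e1 : (l : X → ℂ) 1 = -(zp l : ℂ) * zp k * (k : X → ℂ) 1 := by
      linear_combination (zp l : ℂ) * p1 + ((l : X → ℂ) 1) * (-1 : ℂ) * hsq zl
    have ev' : (l : X → ℂ) v = -(zp l : ℂ) * zp k * (k : X → ℂ) v := by
      linear_combination (zp l : ℂ) * pv + ((l : X → ℂ) v) * (-1 : ℂ) * hsq zl
    rw [e1, ev']
    have := hs_ne zk
    have := hs_ne zl
    field_simp
    linear_combination (-(zp k : ℂ) * (k : X → ℂ) v ^ 2) * hsq zl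
  rw [hR] at q
  set A : ℂ := zg i * (i : X → ℂ) 1 with hA
  set α : ℂ := zg i * (i : X → ℂ) v with hα
  have hA0 : A ≠ 0 := mul_ne_zero (hs_ne zi) (irr_one_ne_zero i.2)
  have hB : (zg j : ℂ) * (j : X → ℂ) 1 = -1 - A := by rw [hA]; linear_combination g1
  have hβ : (zg j : ℂ) * (j : X → ℂ) v = -1 - α := by rw [hα]; linear_combination gv
  have hB0 : -1 - A ≠ 0 := hB ▸ mul_ne_zero (hs_ne zj) (irr_one_ne_zero j.2)
  have norm : ∀ {n : ℤ} (y : ℂ) {t : ℂ}, n * n = 1 → t ≠ 0 →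
      (n : ℂ) * (y ^ 2 / t) = ((n : ℂ) * y) ^ 2 / ((n : ℂ) * t) := by
    intro n y t hn ht
    have := hs_ne hn
    field_simp
  rw [norm _ zi (irr_one_ne_zero i.2), norm _ zj (irr_one_ne_zero j.2), ← hA, ← hα, hB, hβ] at q
  simp only [one_pow, div_one] at q
  have hαA : α = A := by
    field_simp at q
    have : (α - A) ^ 2 = 0 := by linear_combination q
    exact sub_eq_zero.1 (pow_eq_zero_iff (n := 2) (by norm_num) |>.1 this)
  have hiv : (i : X → ℂ) v = (i : X → ℂ) 1 := mul_left_cancel₀ (hs_ne zi) hαA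
  have hjv : (j : X → ℂ) v = (j : X → ℂ) 1 := mul_left_cancel₀ (hs_ne zj) (by rw [hβ, hB, hαA])
  obtain ⟨ni, ρi, -, hρi⟩ := i.2
  obtain ⟨nj, ρj, -, hρj⟩ := j.2
  set N : Subgroup X := ρi.ker ⊓ ρj.ker with hN
  have hker : ∀ {n : ℕ} (ρ : Representation ℂ X (Fin n → ℂ)) {χ : X → ℂ}, ρ.character = χ → ∀ g,
      g ∈ MonoidHom.ker ρ ↔ χ g = χ 1 := by
    intro n ρ χ h g
    rw [MonoidHom.mem_ker, Module.End.one_eq_id, ← eq_id_iff ρ g, ← h, Representation.char_one]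
  have hvN : v ∈ N := ⟨(hker ρi hρi v).2 hiv, (hker ρj hρj v).2 hjv⟩
  have hout : ∀ d, Out d → w.φ d ∉ N := by
    intro d hd hdN
    have h0 : w.lift gf (w.φ d) = toR (gf d) :=
      w.lift_at gc_gf hd (one_mem _) (x := 1) (by group)
    rw [hvg, eg, gf_val, if_pos hd, (hker ρi hρi _).1 hdN.1, (hker ρj hρj _).1 hdN.2] at h0
    simp only [hone, toR_apply] at h0
    rw [g1] at h0
    norm_num at h0
  haveI hNn : N.Normal := inferInstance
  have hc : ∀ {a : M648}, w.φ a ∈ N → ∀ b, w.φ (b * a * b⁻¹) ∈ N := fun h b => by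
    rw [map_mul, map_mul, map_inv]; exact hNn.conj_mem _ h _
  refine ⟨N, hNn, fun m => ⟨fun hm => ?_, fun hm => ?_⟩⟩
  · by_contra hp
    have hno : ¬ Out m := fun h => hout m h hm
    refine hout _ (out_of_transp m hno hp) ?_
    rw [show m * gB * m⁻¹ * gB⁻¹ = m * (gB * m⁻¹ * gB⁻¹) by group, map_mul]
    exact N.mul_mem hm (hc (by rw [map_inv]; exact N.inv_mem hm) gB)
  have hf' : w.φ (gB * f1 * gB⁻¹) ∈ N := hc hvN gB
  have hA' : w.φ gA ∈ N := by
    have h2 : w.φ (gA * gA) ∈ N := by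
      rw [← gA_comm, map_mul]
      exact N.mul_mem (hc hf' gA) hf'
    rw [show gA = (gA * gA) * (gA * gA) by decide +kernel, map_mul]
    exact N.mul_mem h2 h2
  have hrot : ∀ a : M648, W648.rot a → w.φ a ∈ N := by
    intro a ha
    obtain ⟨x, y, z, rfl⟩ := rot_word a ha
    simp only [map_mul, map_pow, map_inv]
    have hB1 := hNn.conj_mem _ hA' (w.φ gB)
    have hB2 : w.φ gB * w.φ gB * w.φ gA * (w.φ gB)⁻¹ * (w.φ gB)⁻¹ ∈ N := by
      have := hNn.conj_mem _ hB1 (w.φ gB)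
      simpa [mul_assoc] using this
    exact N.mul_mem (N.mul_mem (N.pow_mem hA' _) (N.pow_mem hB1 _)) (N.pow_mem hB2 _)
  rcases pp_one_cases m hm with h | h | h | h
  · exact hrot m h
  · exact (N.mul_mem_cancel_right hvN).1 (by rw [← map_mul]; exact hrot _ h)
  · exact (N.mul_mem_cancel_right hf').1 (by rw [← map_mul]; exact hrot _ h)
  · refine (N.mul_mem_cancel_right (?_ : w.φ (f1 * (gB * f1 * gB⁻¹)) ∈ N)).1 (by rw [← map_mul]; exact hrot _ h)
    rw [map_mul]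
    exact N.mul_mem hvN hf'

end XbCfg

end Cfsg.Agent.Spor.PSLFourThree
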