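import Cfsg.Agent.Lib.Spor.PSLFourThree.XB.Facts
import Cfsg.Agent.Lib.Fusion.NPC
import Cfsg.Agent.Lib.Solv.Generation
import Cfsg.Agent.Lib.Char.DadeGen
import Cfsg.Prelude.Def_OddOrderChar

/-!
# `3³ : S₄` inside a group in which the non-elliptic elements move only inside it
-/

set_option autoImplicit false
set_option linter.unusedSectionVars false
set_option maxRecDepth 100000

namespace Cfsg.Agent.Spor.PSLFourThree

open Cfsg Cfsg.Agent.Solv.Special Cfsg.Agent.Solv.Special.W648 XB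

universe u

/-- The group `3³ : S₄` with strong non-elliptic elements. -/
structure XbCfg (X : Type u) [Group X] where
  /-- The embedding. -/
  φ : M648 →* X
  inj : Function.Injective φ
  strong : ∀ m : M648, NE m → ∀ g : X, g * φ m * g⁻¹ ∈ φ.range → g ∈ φ.range
  vt : ¬ IsConj (φ e1) (φ f1)

namespace XbCfg

variable {X : Type u} [Group X] (w : XbCfg X)

/-- The subgroup. -/
abbrev M : Subgroup X := w.φ.range

theorem mem (m : M648) : w.φ m ∈ w.M := ⟨m, rfl⟩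

theorem cent_iff {g h : M648} : w.φ h ∈ Subgroup.centralizer ({w.φ g} : Set X) ↔ h * g = g * h := by
  rw [Subgroup.mem_centralizer_singleton_iff, ← map_mul, ← map_mul, w.inj.eq_iff]

/-- A normal complement in a centraliser. -/
def Hd (a : X) : Subgroup X :=
  (Cfsg.pResidual 3 (Subgroup.centralizer ({a} : Set X))).map (Subgroup.centralizer ({a} : Set X)).subtype

theorem Hd_le (a : X) : Hd a ≤ Subgroup.centralizer ({a} : Set X) := Subgroup.map_subtype_le _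

theorem Hd_conj {a c u : X} (hc : c ∈ Subgroup.centralizer ({a} : Set X)) (hu : u ∈ Hd a) :
    c * u * c⁻¹ ∈ Hd a := by
  obtain ⟨v, hv, rfl⟩ := hu
  exact ⟨⟨c, hc⟩ * v * ⟨c, hc⟩⁻¹, (inferInstance : (Cfsg.pResidual 3 _).Normal).conj_mem v hv _, rfl⟩

variable [Finite X]

/-- The centraliser inside the subgroup of an outer element. -/
theorem card_cent {d : M648} (hd : Out d) :
    Nat.card ↥(w.M ⊓ Subgroup.centralizer ({w.φ d} : Set X) : Subgroup X) = 9 := by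
  have e : (w.M ⊓ Subgroup.centralizer ({w.φ d} : Set X) : Subgroup X) =
      (Subgroup.centralizer ({d} : Set M648)).map w.φ := by
    ext z
    constructor
    · rintro ⟨⟨m, rfl⟩, hz⟩
      exact ⟨m, Subgroup.mem_centralizer_singleton_iff.2 (w.cent_iff.1 hz), rfl⟩
    · rintro ⟨m, hm, rfl⟩
      exact ⟨w.mem m, w.cent_iff.2 (Subgroup.mem_centralizer_singleton_iff.1 hm)⟩
  rw [e, Subgroup.card_map_of_injective w.inj, ← out_cent_card d hd, centCard, ← Fintype.card_subtype,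
    ← Nat.card_eq_fintype_card]
  exact Nat.card_congr (Equiv.subtypeEquivRight fun g => Subgroup.mem_centralizer_singleton_iff)

theorem isPGroup_cent {d : M648} (hd : Out d) :
    IsPGroup 3 ↥(w.M ⊓ Subgroup.centralizer ({w.φ d} : Set X) : Subgroup X) :=
  IsPGroup.of_card (n := 2) (by rw [w.card_cent hd]; norm_num)

theorem comm_cent {d : M648} (hd : Out d) {a b : X}
    (ha : a ∈ w.M ⊓ Subgroup.centralizer ({w.φ d} : Set X))
    (hb : b ∈ w.M ⊓ Subgroup.centralizer ({w.φ d} : Set X)) : a * b = b * a := by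
  haveI : Fact (Nat.Prime 3) := ⟨Nat.prime_three⟩
  have h := IsPGroup.isMulCommutative_of_card_eq_prime_sq (p := 3) (by rw [w.card_cent hd]; norm_num)
  exact congrArg Subtype.val (h.is_comm.comm ⟨a, ha⟩ ⟨b, hb⟩)

theorem y_mem {d : M648} (hd : Out d) : w.φ (yv d) ∈ w.M ⊓ Subgroup.centralizer ({w.φ d} : Set X) :=
  ⟨w.mem _, w.cent_iff.2 (yv_spec d hd).2⟩

/-- Conjugators of a group containing the witness. -/
theorem norm_mem {d : M648} (hd : Out d) {g : X}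
    (hg : g * w.φ (yv d) * g⁻¹ ∈ w.M) : g ∈ w.M := w.strong _ (yv_spec d hd).1 g hg

theorem hnpc_cent {d : M648} (hd : Out d) :
    ∃ P : Sylow 3 ↥(Subgroup.centralizer ({w.φ d} : Set X)),
      (P : Subgroup _).map (Subgroup.centralizer ({w.φ d} : Set X)).subtype =
        w.M ⊓ Subgroup.centralizer ({w.φ d} : Set X) ∧
      Cfsg.HasNormalPComplement 3 ↥(Subgroup.centralizer ({w.φ d} : Set X)) := by
  haveI : Fact (Nat.Prime 3) := ⟨Nat.prime_three⟩
  set C := Subgroup.centralizer ({w.φ d} : Set X)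
  set W := w.M ⊓ C with hWdef
  obtain ⟨P, hP⟩ := ((w.isPGroup_cent hd).of_equiv
    (Subgroup.subgroupOfEquivOfLe (H := W) (K := C) inf_le_right).symm).exists_le_sylow
  have hy : (⟨w.φ (yv d), (w.y_mem hd).2⟩ : C) ∈ (P : Subgroup C) := hP (w.y_mem hd)
  have hPW : (P : Subgroup C) ≤ W.subgroupOf C := by
    by_contra hne
    haveI : Group.IsNilpotent P := P.2.isNilpotent
    have hlt : (W.subgroupOf C).subgroupOf P < ⊤ := lt_top_iff_ne_top.2 fun h =>
      hne (Subgroup.subgroupOf_eq_top.1 h)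
    obtain ⟨g, hg, hgW⟩ := SetLike.exists_of_lt ((Group.normalizerCondition_of_isNilpotent (G := P)) _ hlt)
    refine hgW (show ((g : C) : X) ∈ W from ⟨w.norm_mem hd ?_, (g : C).2⟩)
    have h := (Subgroup.mem_normalizer_iff.1 hg ⟨⟨w.φ (yv d), (w.y_mem hd).2⟩, hy⟩).1 (w.y_mem hd)
    exact h.1
  have hPe : (P : Subgroup C).map C.subtype = W := by
    refine le_antisymm ?_ fun z hz => ⟨⟨z, hz.2⟩, hP hz, rfl⟩
    rintro _ ⟨z, hz, rfl⟩
    exact hPW hz
  refine ⟨P, hPe, Fusion.hnpc_of_normalizer_le_centralizer P fun z hz => ?_⟩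
  have hzM : (z : X) ∈ w.M :=
    w.norm_mem hd ((hPW ((Subgroup.mem_normalizer_iff.1 hz _).1 hy)).1)
  rw [Subgroup.mem_centralizer_iff]
  intro v hv
  exact Subtype.ext (w.comm_cent hd (hPW hv) ⟨hzM, z.2⟩)

theorem card_Hd {d : M648} (hd : Out d) : (Nat.card (Hd (w.φ d))).Coprime 3 := by
  haveI : Fact (Nat.Prime 3) := ⟨Nat.prime_three⟩
  obtain ⟨P, -, h⟩ := w.hnpc_cent hd
  rw [Hd, Subgroup.card_map_of_injective (Subgroup.subtype_injective _)]
  exact Fusion.hnpc_iff.1 h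

theorem Hd_inf {d : M648} (hd : Out d) :
    Hd (w.φ d) ⊓ (w.M ⊓ Subgroup.centralizer ({w.φ d} : Set X)) = ⊥ :=
  haveI : Fact (Nat.Prime 3) := ⟨Nat.prime_three⟩
  Fusion.coprime_inf_pGroup (w.card_Hd hd) (w.isPGroup_cent hd)

theorem Hd_sup {d : M648} (hd : Out d) :
    Hd (w.φ d) ⊔ (w.M ⊓ Subgroup.centralizer ({w.φ d} : Set X)) =
      Subgroup.centralizer ({w.φ d} : Set X) := by
  haveI : Fact (Nat.Prime 3) := ⟨Nat.prime_three⟩
  obtain ⟨P, hP, -⟩ := w.hnpc_cent hd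
  rw [Hd, ← hP, ← Subgroup.map_sup, Fusion.pResidual_sup_sylow P, ← MonoidHom.range_eq_map,
    Subgroup.range_subtype]

/-- Outer elements are fused by the subgroup. -/
theorem out_fusion {d d' : M648} (hd : Out d) (hd' : Out d') {g : X} (hg : g * w.φ d * g⁻¹ = w.φ d') :
    ∃ m ∈ w.M, m * w.φ d * m⁻¹ = w.φ d' := by
  haveI : Fact (Nat.Prime 3) := ⟨Nat.prime_three⟩
  set C := Subgroup.centralizer ({w.φ d'} : Set X)
  obtain ⟨P, hP, -⟩ := w.hnpc_cent hd'
  set S := (w.M ⊓ Subgroup.centralizer ({w.φ d} : Set X)).map (MulAut.conj g).toMonoidHom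
  have hSC : S ≤ C := by
    rintro _ ⟨z, hz, rfl⟩
    have h := Subgroup.mem_centralizer_singleton_iff.1 hz.2
    rw [Subgroup.mem_centralizer_singleton_iff]
    show g * z * g⁻¹ * w.φ d' = w.φ d' * (g * z * g⁻¹)
    rw [← hg]
    calc g * z * g⁻¹ * (g * w.φ d * g⁻¹) = g * (z * w.φ d) * g⁻¹ := by group
      _ = g * (w.φ d * z) * g⁻¹ := by rw [h]
      _ = _ := by group
  obtain ⟨Q, hQ⟩ := (((w.isPGroup_cent hd).map (MulAut.conj g).toMonoidHom).of_equiv
    (Subgroup.subgroupOfEquivOfLe hSC).symm).exists_le_sylow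
  obtain ⟨c, hc⟩ := MulAction.exists_smul_eq C Q P
  have hyS : g * w.φ (yv d) * g⁻¹ ∈ S := ⟨_, w.y_mem hd, rfl⟩
  have h1 : c * (⟨_, hSC hyS⟩ : C) * c⁻¹ ∈ (P : Subgroup C) := by
    rw [← hc, Sylow.coe_subgroup_smul]
    exact ⟨_, hQ hyS, rfl⟩
  have h2 : (c : X) * (g * w.φ (yv d) * g⁻¹) * (c : X)⁻¹ ∈ w.M := by
    have h3 : ((c * (⟨_, hSC hyS⟩ : C) * c⁻¹ : C) : X) ∈ (P : Subgroup C).map C.subtype := ⟨_, h1, rfl⟩
    rw [hP] at h3
    exact h3.1
  refine ⟨(c : X) * g, w.norm_mem hd ?_, ?_⟩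
  · convert h2 using 1
    group
  · calc (c : X) * g * w.φ d * ((c : X) * g)⁻¹ = (c : X) * (g * w.φ d * g⁻¹) * (c : X)⁻¹ := by group
      _ = _ := by rw [hg, Subgroup.mem_centralizer_singleton_iff.1 c.2, mul_inv_cancel_right]

/-- The support. -/
def D : Set X := w.φ '' {d | Out d}

theorem dade : Cfsg.DadeHypothesis w.D w.M Hd := by
  haveI : Fact (Nat.Prime 3) := ⟨Nat.prime_three⟩
  refine ⟨?_, ?_, ?_, ?_, fun a _ => Hd_le a, fun a _ c hc u hu => Hd_conj hc hu, ?_, ?_, ?_⟩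
  · rintro ⟨g, hg, h⟩
    exact (out_facts g hg).1 (w.inj (h.trans w.φ.map_one.symm))
  · rintro _ ⟨g, -, rfl⟩
    exact w.mem g
  · rintro z ⟨h, rfl⟩ _ ⟨g, hg, rfl⟩
    exact ⟨h * g * h⁻¹, out_conj g h hg, by simp⟩
  · rintro _ ⟨g, hg, rfl⟩ z ⟨h, hh, hhe⟩
    obtain ⟨m, hm, e⟩ := w.out_fusion hg hh hhe.symm
    exact ⟨m, hm, e.trans hhe⟩
  · rintro _ ⟨g, hg, rfl⟩
    exact w.Hd_inf hg
  · rintro _ ⟨g, hg, rfl⟩
    exact w.Hd_sup hg
  · rintro _ ⟨g, hg, rfl⟩ _ ⟨h, hh, rfl⟩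
    obtain ⟨n, hn⟩ := IsPGroup.iff_card.1 (w.isPGroup_cent hh)
    rw [hn]
    exact (w.card_Hd hg).pow_right n

/-- An element of order nine is strong. -/
theorem nine_cent {d : M648} (hd : Out d) (h9 : d * d * d ≠ 1) {g : X}
    (hg : g * w.φ d * g⁻¹ ∈ w.M) : g ∈ w.M := by
  refine w.strong _ (out_cube d hd h9) g ?_
  have h := mul_mem (mul_mem hg hg) hg
  rw [map_mul, map_mul]
  convert h using 1
  group

theorem Hd_nine {d : M648} (hd : Out d) (h9 : d * d * d ≠ 1) : Hd (w.φ d) = ⊥ := by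
  refine le_bot_iff.1 ((w.Hd_inf hd) ▸ le_inf le_rfl (le_inf ?_ (Hd_le _)))
  intro z hz
  refine w.nine_cent hd h9 ?_
  rw [Subgroup.mem_centralizer_singleton_iff.1 (Hd_le _ hz), mul_inv_cancel_right]
  exact w.mem d

end XbCfg

end Cfsg.Agent.Spor.PSLFourThree
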